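import Mathlib
import Groth.Agent.Lib.Helper11.UnramFib
import Groth.Agent.Lib.Helper29.DiagUnit
import Groth.Agent.Lib.Helper4.SepIdemFinite
import Groth.Agent.Lib.Helper7.OpenImmAnn

/-!
# Unit section of an `S`-group scheme is an open immersion iff unramified (helper14, S5318)

Sub-lemmas contributed by helper29 (`DiagUnit`), helper4 (`SepIdemFinite`), helper7 (`OpenImmAnn`).
-/

namespace Groth.Agent.Lib.Helper14.UnitSec

open CategoryTheory CategoryTheory.Limits MonoidalCategory CartesianMonoidalCategory MonObj
  AlgebraicGeometry
open scoped TensorProduct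
open Groth.Agent.Lib.Helper29.DiagUnit Groth.Agent.Lib.Helper4.SepIdemFinite
  Groth.Agent.Lib.Helper7.OpenImmAnn

universe v u

/-- A section of a formally unramified morphism locally of finite type is an open immersion. -/
theorem isOpenImmersion_of_section {X S : Scheme.{u}} (f : X ⟶ S) [LocallyOfFiniteType f]
    [FormallyUnramified f] (σ : S ⟶ X) (h : σ ≫ f = 𝟙 S) : IsOpenImmersion σ := by
  have hle : ((@FormallyUnramified ⊓ @LocallyOfFiniteType : MorphismProperty Scheme.{u})) ≤
      (@IsOpenImmersion : MorphismProperty Scheme.{u}).diagonal := by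
    intro X Y f hf
    haveI : FormallyUnramified f := hf.1
    haveI : LocallyOfFiniteType f := hf.2
    exact FormallyUnramified.isOpenImmersion_diagonal f
  haveI : (@FormallyUnramified ⊓ @LocallyOfFiniteType :
      MorphismProperty Scheme.{u}).IsStableUnderBaseChange :=
    MorphismProperty.IsStableUnderBaseChange.inf
  have hP := (MorphismProperty.hasOfPostcompProperty_iff_le_diagonal
    (P := @IsOpenImmersion)).mpr hle
  exact hP.of_postcomp σ f ⟨‹_›, ‹_›⟩ (by rw [h]; infer_instance)

/-- If the unit section of an `S`-group is an open immersion, so is its diagonal. -/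
theorem isOpenImmersion_diagonal_of_unit {S : Scheme.{u}} (G : Over S) [GrpObj G]
    [IsOpenImmersion η[G].left] : IsOpenImmersion (pullback.diagonal G.hom) := by
  have sq := (isPullback_diag_unit G).map (Over.forget S)
  have h := MorphismProperty.of_isPullback (P := @IsOpenImmersion) sq.flip
    (show IsOpenImmersion η[G].left from inferInstance)
  exact h

theorem isOpenImmersion_diagonal_fiber {X S : Scheme.{u}} (f : X ⟶ S)
    [IsOpenImmersion (pullback.diagonal f)] (s : S) :
    IsOpenImmersion (pullback.diagonal (f.fiberToSpecResidueField s)) :=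
  MorphismProperty.pullback_snd (P := (@IsOpenImmersion : MorphismProperty Scheme.{u}).diagonal)
    f (S.fromSpecResidueField s) (show IsOpenImmersion (pullback.diagonal f) from inferInstance)

/-- A ring map from a field whose `Spec` has open-immersion diagonal is finite. -/
theorem finite_of_diag_openImm (K A : Type u) [Field K] [CommRing A] [Algebra K A]
    [IsOpenImmersion (pullback.diagonal (Spec.map (CommRingCat.ofHom (algebraMap K A))))] :
    Module.Finite K A := by
  have h1 : IsOpenImmersion (Spec.map (CommRingCat.ofHom
      (Algebra.TensorProduct.lmul' K : A ⊗[K] A →ₐ[K] A).toRingHom)) := by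
    have h := (inferInstance : IsOpenImmersion
      (pullback.diagonal (Spec.map (CommRingCat.ofHom (algebraMap K A)))))
    rw [diagonal_SpecMap] at h
    exact (MorphismProperty.cancel_right_of_respectsIso @IsOpenImmersion _
      (pullbackSpecIso K A A).inv).mp h
  have hsurj : Function.Surjective (CommRingCat.ofHom
      (Algebra.TensorProduct.lmul' K : A ⊗[K] A →ₐ[K] A).toRingHom).hom := by
    intro a
    exact ⟨a ⊗ₜ 1, by simp⟩
  obtain ⟨e, he1, hker⟩ := exists_annihilating_of_isOpenImmersion _ hsurj
  refine finite_of_sepIdem e he1 fun a => hker _ ?_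
  simp

theorem lfp_Spec_of_diag {K : Type u} [Field K] {R : CommRingCat.{u}}
    (h : Spec R ⟶ Spec (CommRingCat.of K)) (hd : IsOpenImmersion (pullback.diagonal h)) :
    LocallyOfFinitePresentation h := by
  obtain ⟨φ, rfl⟩ : ∃ φ, Spec.map φ = h := ⟨Spec.preimage h, Spec.map_preimage h⟩
  rw [HasRingHomProperty.Spec_iff (P := @LocallyOfFinitePresentation)]
  letI : Algebra K R := φ.hom.toAlgebra
  haveI : IsOpenImmersion (pullback.diagonal
      (Spec.map (CommRingCat.ofHom (algebraMap K R)))) := hd
  haveI := finite_of_diag_openImm K R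
  show Algebra.FinitePresentation K R
  exact Algebra.FinitePresentation.of_finiteType.mp inferInstance

/-- A morphism to the spectrum of a field whose diagonal is an open immersion is locally of
finite presentation (in fact locally finite). -/
theorem locallyOfFinitePresentation_of_diag_openImm {K : Type u} [Field K] {Y : Scheme.{u}}
    (g : Y ⟶ Spec (CommRingCat.of K)) [IsOpenImmersion (pullback.diagonal g)] :
    LocallyOfFinitePresentation g := by
  rw [HasRingHomProperty.iff_of_source_openCover (P := @LocallyOfFinitePresentation)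
    Y.affineCover]
  intro i
  rw [← HasRingHomProperty.iff_of_isAffine (P := @LocallyOfFinitePresentation)]
  have hd : (@IsOpenImmersion : MorphismProperty Scheme.{u}).diagonal (Y.affineCover.f i ≫ g) := by
    refine MorphismProperty.comp_mem _ _ _ ?_
      (show IsOpenImmersion (pullback.diagonal g) from inferInstance)
    show IsOpenImmersion (pullback.diagonal (Y.affineCover.f i))
    infer_instance
  exact lfp_Spec_of_diag _ hd

/-- Main theorem, first part, forward direction. -/
theorem fwd {S : Scheme.{u}} (G : Over S) [GrpObj G] (hη : IsOpenImmersion η[G].left) :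
    (∃ W : G.left.Opens, (∀ p : ↥(𝟙_ (Over S)).left, η[G].left.base p ∈ W) ∧
      LocallyOfFinitePresentation (W.ι ≫ G.hom)) ∧
    ∀ s : S, FormallyUnramified (G.hom.fiberToSpecResidueField s) ∧
      LocallyOfFinitePresentation (G.hom.fiberToSpecResidueField s) := by
  haveI := hη
  haveI hΔ := isOpenImmersion_diagonal_of_unit G
  refine ⟨⟨η[G].left.opensRange, fun p => ⟨p, rfl⟩, ?_⟩, fun s => ?_⟩
  · have e : η[G].left.isoOpensRange.hom ≫ (η[G].left.opensRange.ι ≫ G.hom) = 𝟙 _ := by
      rw [← Category.assoc, Scheme.Hom.isoOpensRange_hom_ι]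
      exact Over.w η[G]
    have : η[G].left.opensRange.ι ≫ G.hom = η[G].left.isoOpensRange.inv := by
      rw [← cancel_epi η[G].left.isoOpensRange.hom, e, Iso.hom_inv_id]
    rw [this]
    infer_instance
  · haveI := isOpenImmersion_diagonal_fiber G.hom s
    exact ⟨inferInstance, locallyOfFinitePresentation_of_diag_openImm (K := S.residueField s) _⟩

set_option backward.isDefEq.respectTransparency false in
/-- Main theorem, first part, backward direction. -/
theorem bwd {S : Scheme.{u}} (G : Over S) [GrpObj G] (W : G.left.Opens)
    (hW : ∀ p : ↥(𝟙_ (Over S)).left, η[G].left.base p ∈ W)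
    (hlfp : LocallyOfFinitePresentation (W.ι ≫ G.hom))
    (hfib : ∀ s : S, FormallyUnramified (G.hom.fiberToSpecResidueField s)) :
    IsOpenImmersion η[G].left := by
  haveI := hlfp
  haveI : FormallyUnramified (W.ι ≫ G.hom) := by
    refine Groth.Agent.Lib.Helper11.UnramFib.formallyUnramified_of_fiberToSpecResidueField _
      fun s => ?_
    let j : (W.ι ≫ G.hom).fiber s ⟶ G.hom.fiber s :=
      pullback.map _ _ _ _ W.ι (𝟙 _) (𝟙 _) (by simp) (by simp)
    have hj : (W.ι ≫ G.hom).fiberToSpecResidueField s = j ≫ G.hom.fiberToSpecResidueField s := by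
      simp only [j, Scheme.Hom.fiberToSpecResidueField, pullback.map, pullback.lift_snd,
        Category.comp_id]
    rw [hj]
    haveI := hfib s
    haveI : IsOpenImmersion j := by
      dsimp only [j]
      infer_instance
    have hjU : FormallyUnramified j := inferInstance
    exact MorphismProperty.comp_mem @FormallyUnramified j _ hjU (hfib s)
  have hr : Set.range η[G].left.base ⊆ Set.range W.ι.base := by
    rintro _ ⟨p, rfl⟩
    simpa using hW p
  let η' : S ⟶ W.toScheme := IsOpenImmersion.lift W.ι η[G].left hr
  have h1 : η' ≫ W.ι = η[G].left := IsOpenImmersion.lift_fac _ _ _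
  have h2 : η' ≫ (W.ι ≫ G.hom) = 𝟙 S := by
    rw [← Category.assoc, h1]; exact Over.w η[G]
  haveI := isOpenImmersion_of_section (W.ι ≫ G.hom) η' h2
  rw [← h1]
  infer_instance

end Groth.Agent.Lib.Helper14.UnitSec
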